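import Cfsg.Agent.WfS.LemA

/-! `t` fixes a unique coset of `G1`. -/

set_option autoImplicit false
set_option linter.unusedSectionVars false

namespace Cfsg.Agent.WfS

open Subgroup Cfsg.Agent.PLocal.Amb Cfsg.Agent.Wr
open scoped commutatorElement

variable {G : Type*} [Group G] [Finite G] {L M : Subgroup G} {t : G}

/-- PROOF. Suppose `g t g⁻¹ ∈ G1`, `g ∉ G1`.  Choose `E` of maximal order among the `2`-groups with
`t ∈ E ≤ G1 ⊓ cj(a, G1)` for some `a ∉ G1` (`⟨t⟩`, `a = g⁻¹` is one).  `N = N(E)`, `E ≤ S` (`exists_cx`).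
(1) `N ⊓ N(E⁰) = N ⊓ G1`: `norm0`; if `n ∈ N ⊓ N(E⁰)`, `n t n⁻¹ ∈ E \ E⁰`, so `n ∈ G1` by `home`.
(2) `N ≰ G1`: otherwise take a Sylow `R ≥ E` of `cj(a, G1)`; `R ⊓ N(E) ≤ G1` gives `R ⊓ N(E) = E` by
maximality, so `R = E` (`eq_of_inf_normalizer_le`); then `cj(a⁻¹, E)` is Sylow in `G1`, `E` too (same
order), `cj(k, cj(a⁻¹, E)) = E` with `k ∈ G1`, `k a⁻¹ ∈ N ≤ G1`, false.
(3) `se`: `x ∈ N(cj(g, E⁰))` gives `g⁻¹ x g ∈ G1` by (1), so `E ⊔ ⟨x⟩ ≤ G1 ⊓ cj(g, G1)` (`pg_sup`) and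
`g ∈ G1` by maximality.  So `Ax L M t S z z' w E N t`; take `g, x` from `lemA`, `A = cj(g, E⁰)`.
For `k ∈ N \ G1`: `k⁻¹ t k ∈ E` lies in `N(L)` by `home`.  With `k = g`, `x⁻¹ g`: `t, x t x⁻¹ ∈ A`.
So `[x, t] ∈ A`, `[x, E⁰] ≤ E ⊓ L ≤ A`, every element of `E` is `e` or `e t` (`mul_sw`), `A` is normal in
`E`: `x ∈ N(A)` (`mem_norm_of_comm`), against `se`. -/
theorem Wf.uq (h : Wf L M t) : StdL.Uq (G1 L M) t := by
  refine ⟨h.tG, h.tt, fun g₀ hg₀ => by_contra fun g₀G => ?_⟩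
  obtain ⟨E, ⟨hE, tE, EG, a, aG, Ea⟩, hmax⟩ := (wellFounded_gt (α := Subgroup G)).has_min
    {E | IsPGroup 2 E ∧ t ∈ E ∧ E ≤ G1 L M ∧ ∃ a, a ∉ G1 L M ∧ E ≤ cj(a, G1 L M)}
    ⟨zpowers t, StdL.isPGroup_zp h.tt, mem_zpowers t, zpowers_le.2 h.tG, g₀⁻¹,
      fun c => g₀G (inv_mem_iff.1 c), zpowers_le.2 (mem_cj.2 (by rwa [inv_inv]))⟩
  have mx : ∀ R : Subgroup G, IsPGroup 2 R → E ≤ R → R ≤ G1 L M → ∀ b, b ∉ G1 L M →
      R ≤ cj(b, G1 L M) → R ≤ E := fun R hR ER RG b bG Rb =>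
    (ER.lt_or_eq.resolve_left (hmax R ⟨hR, ER tE, RG, b, bG, Rb⟩)).ge
  obtain ⟨S, z, z', w, c, ES⟩ := h.exists_cx hE EG tE
  have n1 : ∀ n ∈ 𝐍[E], n ∈ 𝐍[E ⊓ 𝐍[L]] → n ∈ G1 L M := fun n hn hn' =>
    h.home n (EG (conj_mem_of_mem_normalizer hn tE)) fun m => h.tN (by
      have := inv_conj_mem_of_mem_normalizer hn'
        (⟨conj_mem_of_mem_normalizer hn tE, m⟩ : n * t * n⁻¹ ∈ E ⊓ 𝐍[L])
      rw [show n⁻¹ * (n * t * n⁻¹) * n = t by group] at this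
      exact this.2)
  have ex : ∃ g ∈ 𝐍[E], g ∉ 𝐍[E ⊓ 𝐍[L]] := by
    by_contra H
    push Not at H
    obtain ⟨R, hR, ER⟩ := exists_isSyl_ge hE Ea
    have e1 : E = R := eq_of_inf_normalizer_le hR.pgrp ER (mx _ (hR.pgrp.to_le inf_le_left)
      (le_inf ER le_normalizer) (fun n hn => n1 n hn.2 (H n hn.2)) a aG (inf_le_left.trans hR.le))
    subst e1
    have s1 := hR.cj a⁻¹
    rw [cj_inv_cj] at s1
    obtain ⟨k, hk, e⟩ := (s1.of_card_ge hE EG (card_cj _ _).le).exists_cj_eq s1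
    rw [← cj_mul, cj_eq_iff] at e
    exact aG (inv_mem_iff.1 ((mul_mem_cancel_left hk).1 (n1 _ e (H _ e))))
  have A : Ax L M t S z z' w E 𝐍[E] t := by
    refine ⟨c, ES, tE, h.tN, le_rfl, inf_le_right, fun x hx xE x2 g hg xA => ?_, ex⟩
    refine h.norm0 EG (by_contra fun gG => xE ?_) hg
    rw [normalizer_cj, mem_cj] at xA
    refine mx _ (pg_sup hE hx.2 x2) le_sup_left (sup_le EG (zpowers_le.2 (c.SG hx.1))) g gG
      (sup_le ((cj_of_mem_normalizer hg).ge.trans (cj_mono g EG)) (zpowers_le.2 (mem_cj.2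
        (n1 _ (mul_mem (mul_mem (inv_mem hg) hx.2) hg) xA)))) (mem_sup_right (mem_zpowers x))
  obtain ⟨g, hg, gN, -, a1, -, x, hx, xN, xE, x2⟩ := A.lemA
  have gG : g ∉ G1 L M := fun m => gN (h.norm0 EG m hg)
  have key : ∀ k ∈ 𝐍[E], k ∉ G1 L M → k⁻¹ * t * k ∈ E ⊓ 𝐍[L] := fun k hk kG => by
    have m := inv_conj_mem_of_mem_normalizer hk tE
    exact ⟨m, by_contra fun n => kG (inv_mem_iff.1 (h.home k⁻¹ (by rw [inv_inv]; exact EG m)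
      (by rwa [inv_inv])))⟩
  refine gN (A.se' ⟨hx.1, mem_sup_left hx.2⟩ xE x2 hg (h.la_split EG (h.la_norm EG hg).2 tE h.tN
    (fun e he => a1 (mem_inf.2 ⟨mul_mem (conj_mem_of_mem_normalizer xN he.1) (inv_mem he.1), ?_⟩))
    (mul_mem (mem_cj.2 ?_) (inv_mem (mem_cj.2 (key g hg gG))))))
  · rw [mul_assoc, mul_assoc, ← mul_assoc e]
    exact mul_mem hx.2 (conj_mem_of_mem_normalizer he.2 (inv_mem hx.2))
  · have := key _ (mul_mem (inv_mem xN) hg) fun m =>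
      gG ((mul_mem_cancel_left (inv_mem (c.SG hx.1))).1 m)
    rwa [show (x⁻¹ * g)⁻¹ * t * (x⁻¹ * g) = g⁻¹ * (x * t * x⁻¹) * g by group] at this

end Cfsg.Agent.WfS
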